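import Groth.Agent.FlatLocus.ModInjFlat
import Groth.Agent.QCohLib.Criterion
import Groth.Agent.QCohLib.Coherent
import Groth.Agent.QCohLib.FPSections
import Groth.Agent.PullbackMod.SuppClosed
import Groth.Prelude.Def_RefHull

/-!
# The sheaf of homomorphisms
-/

set_option autoImplicit false
set_option backward.isDefEq.respectTransparency false
set_option linter.style.haveILetI false

universe u

open CategoryTheory CategoryTheory.Limits AlgebraicGeometry TopologicalSpace Opposite
open Groth.Agent.CohBase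

noncomputable section

namespace Groth.Agent.HomLib

variable {X : Scheme.{u}} {M N : X.Modules}

lemma ext_germ {V : X.Opens} (s t : Γ(N, V))
    (h : ∀ (x : X) (hx : x ∈ V), N.presheaf.germ V x hx s = N.presheaf.germ V x hx t) : s = t :=
  TopCat.Presheaf.section_ext (F := ⟨N.presheaf, N.isSheaf⟩) V s t h

lemma germ_smul' {V : X.Opens} {x : X} (hx : x ∈ V) (a : Γ(X, V)) (s : Γ(M, V)) :
    M.presheaf.germ V x hx (a • s) = X.presheaf.germ V x hx a • M.presheaf.germ V x hx s :=
  PresheafOfModules.germ_smul (R := X.presheaf) M.val x V hx a s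

lemma germ_res' {V V' : X.Opens} (h : V' ≤ V) {x : X} (hx : x ∈ V') (s : Γ(M, V)) :
    M.presheaf.germ V' x hx (M.presheaf.map (homOfLE h).op s) = M.presheaf.germ V x (h hx) s :=
  M.presheaf.germ_res_apply (homOfLE h) x hx s

lemma res_smul' {V V' : X.Opens} (h : V' ≤ V) (a : Γ(X, V)) (s : Γ(M, V)) :
    M.presheaf.map (homOfLE h).op (a • s) =
      X.presheaf.map (homOfLE h).op a • M.presheaf.map (homOfLE h).op s :=
  M.val.map_smul (homOfLE h).op a s

theorem exists_eval {U : X.Opens} (f : Γ(RefHull.homSh M N, U)) {V : X.Opens} (h : V ≤ U) (m : Γ(M, V)) :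
    ∃ n : Γ(N, V), ∀ (x : X) (hx : x ∈ V),
      N.presheaf.germ V x hx n = f.1 ⟨x, h hx⟩ (M.presheaf.germ V x hx m) := by
  choose W hxW j n hn using fun x : V => RefHull.isLocSect_of_mem f V (homOfLE h) m x
  let F : TopCat.Sheaf Ab X := ⟨N.presheaf, N.isSheaf⟩
  obtain ⟨s, hs, -⟩ := TopCat.Sheaf.existsUnique_gluing' F W V (fun x => j x)
    (fun x hx => Opens.mem_iSup.2 ⟨⟨x, hx⟩, hxW ⟨x, hx⟩⟩) n fun x x' => by
      refine ext_germ _ _ fun y hy => ?_
      exact (N.presheaf.germ_res_apply _ y hy (n x)).trans ((hn x ⟨y, hy.1⟩).symm.trans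
        ((hn x' ⟨y, hy.2⟩).trans (N.presheaf.germ_res_apply _ y hy (n x')).symm))
  refine ⟨s, fun x hx => ?_⟩
  rw [← N.presheaf.germ_res_apply (j ⟨x, hx⟩) x (hxW ⟨x, hx⟩) s]
  refine (congrArg _ (hs ⟨x, hx⟩)).trans ?_
  exact (hn ⟨x, hx⟩ ⟨x, hxW ⟨x, hx⟩⟩).symm

/-- A section of the sheaf of homomorphisms, applied to sections. -/
def ev {U : X.Opens} (f : Γ(RefHull.homSh M N, U)) {V : X.Opens} (h : V ≤ U) : Γ(M, V) →ₗ[Γ(X, V)] Γ(N, V) where
  toFun m := (exists_eval f h m).choose
  map_add' m m' := ext_germ _ _ fun x hx => by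
    rw [(exists_eval f h (m + m')).choose_spec x hx, map_add, map_add, map_add,
      (exists_eval f h m).choose_spec x hx, (exists_eval f h m').choose_spec x hx]
  map_smul' a m := ext_germ _ _ fun x hx => by
    rw [(exists_eval f h (a • m)).choose_spec x hx, germ_smul', map_smul, RingHom.id_apply, germ_smul',
      (exists_eval f h m).choose_spec x hx]

lemma germ_ev {U : X.Opens} (f : Γ(RefHull.homSh M N, U)) {V : X.Opens} (h : V ≤ U) {x : X} (hx : x ∈ V)
    (m : Γ(M, V)) :
    N.presheaf.germ V x hx (ev f h m) = f.1 ⟨x, h hx⟩ (M.presheaf.germ V x hx m) :=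
  (exists_eval f h m).choose_spec x hx

lemma ev_res {U : X.Opens} (f : Γ(RefHull.homSh M N, U)) {V V' : X.Opens} (h : V ≤ U) (h' : V' ≤ V) (m : Γ(M, V)) :
    ev f (h'.trans h) (M.presheaf.map (homOfLE h').op m) = N.presheaf.map (homOfLE h').op (ev f h m) :=
  ext_germ _ _ fun x hx => by rw [germ_ev, germ_res', germ_res', germ_ev]

lemma ev_add {U : X.Opens} (f g : Γ(RefHull.homSh M N, U)) {V : X.Opens} (h : V ≤ U) :
    ev (f + g) h = ev f h + ev g h :=
  LinearMap.ext fun m => ext_germ _ _ fun x hx => by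
    rw [LinearMap.add_apply, map_add, germ_ev, germ_ev, germ_ev]
    rfl

lemma ev_smul {U : X.Opens} (a : Γ(X, U)) (f : Γ(RefHull.homSh M N, U)) :
    ev (a • f) (le_refl U) = a • ev f le_rfl :=
  LinearMap.ext fun m => ext_germ _ _ fun x hx => by
    rw [LinearMap.smul_apply, germ_ev, germ_smul', germ_ev]
    rfl

lemma ext_stalk {U : X.Opens} (f g : Γ(RefHull.homSh M N, U))
    (h : ∀ (x : X) (hx : x ∈ U), f.1 ⟨x, hx⟩ = g.1 ⟨x, hx⟩) : f = g :=
  Subtype.ext (funext fun x => h x.1 x.2)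

section Global

/-- Global sections are morphisms. -/
def toHom (f : Γ(RefHull.homSh M N, (⊤ : X.Opens))) : M ⟶ N :=
  ⟨PresheafOfModules.homMk
    { app := fun U => AddCommGrpCat.ofHom (ev f (le_top : U.unop ≤ ⊤)).toAddMonoidHom
      naturality := fun {U V} i => by
        ext m
        exact ev_res f le_top i.unop.le m }
    (fun U a m => (ev f (le_top : U.unop ≤ ⊤)).map_smul a m)⟩

lemma toHom_app (f : Γ(RefHull.homSh M N, (⊤ : X.Opens))) {U : X.Opens} (m : Γ(M, U)) :
    (toHom f).app U m = ev f le_top m := rfl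

lemma toHom_ofHom (φ : M ⟶ N) : toHom (RefHull.ofHom φ ⊤) = φ := by
  refine Scheme.Modules.hom_ext _ _ fun U => AddCommGrpCat.hom_ext (AddMonoidHom.ext fun m =>
    ext_germ _ _ fun x hx => ?_)
  show N.presheaf.germ U x hx (ev _ le_top m) = _
  rw [germ_ev, RefHull.ofHom_apply, RefHull.stalkMapₗ_germ]

lemma ofHom_toHom (f : Γ(RefHull.homSh M N, (⊤ : X.Opens))) : RefHull.ofHom (toHom f) ⊤ = f := by
  refine ext_stalk _ _ fun x hx => LinearMap.ext fun z => ?_
  obtain ⟨U, hxU, m, rfl⟩ := TopCat.Presheaf.exists_germ_eq M.presheaf z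
  rw [RefHull.ofHom_apply, RefHull.stalkMapₗ_germ, toHom_app, germ_ev]

end Global

section Affine

variable {W : X.Opens} (hW : IsAffineOpen W)

include hW

theorem ev_injective [Coh.IsQCoh M] {f g : Γ(RefHull.homSh M N, W)} (h : ev f le_rfl = ev g le_rfl) : f = g := by
  refine ext_stalk _ _ fun x hx => ?_
  letI := Module.compHom (M.presheaf.stalk x) (X.presheaf.germ W x hx).hom
  letI : Algebra Γ(X, W) (X.presheaf.stalk x) := TopCat.Presheaf.algebra_section_stalk X.presheaf ⟨x, hx⟩
  haveI := hW.isLocalization_stalk ⟨x, hx⟩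
  haveI := FlatLocus.isLocalizedModule_germL M hW x hx
  refine LinearMap.ext fun z => ?_
  obtain ⟨⟨m, s⟩, hs⟩ := IsLocalizedModule.surj (hW.primeIdealOf ⟨x, hx⟩).asIdeal.primeCompl
    (FlatLocus.germL M W x hx) z
  have hu : IsUnit (algebraMap Γ(X, W) (X.presheaf.stalk x) s.1) := IsLocalization.map_units _ s
  refine hu.smul_left_cancel.1 ?_
  rw [← map_smul, ← map_smul]
  have hz : algebraMap Γ(X, W) (X.presheaf.stalk x) s.1 • z = M.presheaf.germ W x hx m := hs
  rw [hz, ← germ_ev f le_rfl hx, ← germ_ev g le_rfl hx, h]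

theorem ev_surjective [Coh.IsQCoh M] (φ : Γ(M, W) →ₗ[Γ(X, W)] Γ(N, W)) :
    ∃ f : Γ(RefHull.homSh M N, W), ev f le_rfl = φ := by
  have hex : ∀ x : W, ∃ F : RefHull.StalkHom M N x.1, ∀ m : Γ(M, W),
      F (M.presheaf.germ W x.1 x.2 m) = N.presheaf.germ W x.1 x.2 (φ m) := fun ⟨x, hx⟩ => by
    letI := Module.compHom (M.presheaf.stalk x) (X.presheaf.germ W x hx).hom
    letI := Module.compHom (N.presheaf.stalk x) (X.presheaf.germ W x hx).hom
    letI : Algebra Γ(X, W) (X.presheaf.stalk x) := TopCat.Presheaf.algebra_section_stalk X.presheaf ⟨x, hx⟩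
    haveI := hW.isLocalization_stalk ⟨x, hx⟩
    haveI := FlatLocus.isLocalizedModule_germL M hW x hx
    haveI : IsScalarTower Γ(X, W) (X.presheaf.stalk x) (M.presheaf.stalk x) := .of_algebraMap_smul fun _ _ => rfl
    haveI : IsScalarTower Γ(X, W) (X.presheaf.stalk x) (N.presheaf.stalk x) := .of_algebraMap_smul fun _ _ => rfl
    have hu : ∀ s : (hW.primeIdealOf ⟨x, hx⟩).asIdeal.primeCompl,
        IsUnit (algebraMap Γ(X, W) (Module.End Γ(X, W) (N.presheaf.stalk x)) s.1) := fun s => by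
      have hs : IsUnit (algebraMap Γ(X, W) (X.presheaf.stalk x) s.1) := IsLocalization.map_units _ s
      refine (Module.End.isUnit_iff _).2 ⟨fun a b hab => hs.smul_left_cancel.1 hab, fun b => ?_⟩
      obtain ⟨v, hv⟩ := hs
      refine ⟨v⁻¹.1 • b, ?_⟩
      show algebraMap Γ(X, W) (X.presheaf.stalk x) s.1 • (v⁻¹.1 • b) = b
      rw [← hv, ← mul_smul, Units.mul_inv, one_smul]
    let L := IsLocalizedModule.lift (hW.primeIdealOf ⟨x, hx⟩).asIdeal.primeCompl (FlatLocus.germL M W x hx)
      ((FlatLocus.germL N W x hx).comp φ) hu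
    refine ⟨L.extendScalarsOfIsLocalization (hW.primeIdealOf ⟨x, hx⟩).asIdeal.primeCompl (X.presheaf.stalk x),
      fun m => ?_⟩
    exact LinearMap.congr_fun (IsLocalizedModule.lift_comp (hW.primeIdealOf ⟨x, hx⟩).asIdeal.primeCompl
      (FlatLocus.germL M W x hx) ((FlatLocus.germL N W x hx).comp φ) hu) m
  choose F hF using hex
  refine ⟨⟨F, fun V i m x => ?_⟩, LinearMap.ext fun m => ext_germ _ _ fun y hy => ?_⟩
  swap
  · rw [germ_ev]
    exact hF ⟨y, hy⟩ m
  obtain ⟨g, hgV, hxg⟩ := hW.exists_basicOpen_le x (i.le x.2)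
  obtain ⟨k, s, hs⟩ := exists_pow_extend M hW g rfl (M.presheaf.map (homOfLE hgV).op m)
  have hgW := X.basicOpen_le g
  let gu : Γ(X, X.basicOpen g) := X.presheaf.map (homOfLE hgW).op (g ^ k)
  have hu : IsUnit gu := by
    show IsUnit (X.presheaf.map (homOfLE hgW).op (g ^ k))
    rw [map_pow]
    exact (RingedSpace.isUnit_res_basicOpen _ g).pow k
  obtain ⟨u, hu⟩ := hu
  refine ⟨X.basicOpen g, hxg, homOfLE hgV, u⁻¹.1 • N.presheaf.map (homOfLE hgW).op (φ s), fun y => ?_⟩
  rw [germ_smul', germ_res', ← hF ⟨y.1, hgW y.2⟩ s, ← germ_res' hgW y.2 s, hs, sc_apply, germ_smul', map_smul,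
    ← mul_smul, ← map_mul, show u⁻¹.1 * X.presheaf.map (homOfLE (le_of_eq rfl |>.trans hgW)).op (g ^ k) = 1 by
      rw [show X.presheaf.map (homOfLE (le_of_eq rfl |>.trans hgW)).op (g ^ k) = u.1 from hu.symm, Units.inv_mul],
    map_one, one_smul, germ_res']

variable (hN : Coh.IsQCoh N)

include hN

/-- Homomorphisms out of a finitely presented module localize. -/
theorem locAt_homSh_of_finitePresentation [Coh.IsQCoh M] [Module.FinitePresentation Γ(X, W) Γ(M, W)] :
    QCohLib.LocAt (RefHull.homSh M N) W where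
  kill g f hf := by
    haveI := hN
    obtain ⟨b, gen, hgen⟩ := Module.Finite.exists_fin (R := Γ(X, W)) (M := Γ(M, W))
    have hk : ∀ l, ∃ n : ℕ, sc (g ^ n) le_rfl (ev f le_rfl (gen l)) = 0 := fun l => by
      refine exists_pow_zero N hW g rfl _ (ext_germ _ _ fun y hy => ?_)
      rw [germ_res', germ_ev, map_zero]
      have h0 := congrFun (congrArg Subtype.val hf) ⟨y, hy⟩
      rw [show f.1 ⟨y, X.basicOpen_le g hy⟩ = 0 from h0]
      rfl
    choose n hn using hk
    refine ⟨Finset.univ.sup n, ev_injective hW ?_⟩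
    rw [sc_apply, ev_smul]
    refine LinearMap.ext_on_range hgen fun l => ?_
    have h1 : g ^ n l • ev f le_rfl (gen l) = 0 := by
      have := hn l
      rw [sc_apply] at this
      simpa using this
    obtain ⟨d, hd⟩ := Nat.exists_eq_add_of_le (Finset.le_sup (f := n) (Finset.mem_univ l))
    rw [LinearMap.smul_apply, show (0 : Γ(RefHull.homSh M N, W)) = (0 : Γ(X, W)) • (0 : Γ(RefHull.homSh M N, W))
      from (zero_smul _ _).symm, ev_smul, zero_smul, LinearMap.zero_apply]
    simp only [homOfLE_refl, op_id, CategoryTheory.Functor.map_id, CommRingCat.id_apply]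
    rw [hd, add_comm, pow_add, mul_smul, h1, smul_zero]
  extend g t := by
    haveI := hN
    have hgW := X.basicOpen_le g
    obtain ⟨b, gen, hgen⟩ := Module.Finite.exists_fin (R := Γ(X, W)) (M := Γ(M, W))
    let π : (Fin b → Γ(X, W)) →ₗ[Γ(X, W)] Γ(M, W) := Fintype.linearCombination Γ(X, W) gen
    have hπ : Function.Surjective π := by
      rw [← LinearMap.range_eq_top, Fintype.range_linearCombination, hgen]
    choose k n hn using fun l => exists_pow_extend N hW g rfl
      (ev t le_rfl (M.presheaf.map (homOfLE hgW).op (gen l)))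
    let K := Finset.univ.sup k
    let α : (Fin b → Γ(X, W)) →ₗ[Γ(X, W)] Γ(N, W) :=
      Fintype.linearCombination Γ(X, W) fun l => g ^ (K - k l) • n l
    let r : Γ(X, W) →+* Γ(X, X.basicOpen g) := (X.presheaf.map (homOfLE hgW).op).hom
    have hres : ∀ c, N.presheaf.map (homOfLE hgW).op (α c) =
        r (g ^ K) • ev t le_rfl (M.presheaf.map (homOfLE hgW).op (π c)) := fun c => by
      simp only [α, π, Fintype.linearCombination_apply, map_sum, Finset.smul_sum]
      refine Finset.sum_congr rfl fun l _ => ?_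
      rw [res_smul', res_smul', res_smul', map_smul]
      show r (c l) • (r (g ^ (K - k l)) • N.presheaf.map (homOfLE hgW).op (n l)) = _
      rw [hn, sc_apply]
      show r (c l) • (r (g ^ (K - k l)) • (r (g ^ k l) • _)) = r (g ^ K) • (r (c l) • _)
      rw [← mul_smul, ← mul_smul, ← mul_smul, ← map_mul, ← map_mul, ← map_mul]
      refine congrArg (fun e => r e • _) ?_
      rw [mul_assoc, ← pow_add, Nat.sub_add_cancel (Finset.le_sup (f := k) (Finset.mem_univ l)), mul_comm]
    obtain ⟨S, hS⟩ := Module.FinitePresentation.fg_ker π hπ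
    have hkill : ∀ c : (Fin b → Γ(X, W)), ∃ j : ℕ, c ∈ S → g ^ j • α c = 0 := fun c => by
      by_cases hc : c ∈ S
      · obtain ⟨j, hj⟩ := exists_pow_zero N hW g rfl (α c) (by
          rw [hres, show π c = 0 from LinearMap.mem_ker.1 (hS ▸ Submodule.subset_span hc), map_zero, map_zero,
            smul_zero])
        refine ⟨j, fun _ => ?_⟩
        rw [sc_apply] at hj
        simpa using hj
      · exact ⟨0, fun h => absurd h hc⟩
    choose j hj using hkill
    let L := S.sup j
    have hker : LinearMap.ker π ≤ LinearMap.ker (g ^ L • α) := by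
      rw [← hS, Submodule.span_le]
      intro c hc
      obtain ⟨d, hd⟩ := Nat.exists_eq_add_of_le (Finset.le_sup (f := j) hc)
      show g ^ L • α c = 0
      rw [show L = d + j c by simp only [L]; omega, pow_add, mul_smul, hj c hc, smul_zero]
    let φ : Γ(M, W) →ₗ[Γ(X, W)] Γ(N, W) :=
      ((LinearMap.ker π).liftQ (g ^ L • α) hker).comp (π.quotKerEquivOfSurjective hπ).symm.toLinearMap
    have hφ : ∀ c, φ (π c) = g ^ L • α c := fun c => by
      show (LinearMap.ker π).liftQ (g ^ L • α) hker ((π.quotKerEquivOfSurjective hπ).symm (π c)) = _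
      rw [(LinearEquiv.symm_apply_eq _).2 (show π c = π.quotKerEquivOfSurjective hπ (Submodule.Quotient.mk c) from rfl)]
      rfl
    obtain ⟨s, hs⟩ := ev_surjective hW φ
    refine ⟨L + K, s, ?_⟩
    haveI : IsAffine (X.basicOpen g).toScheme := hW.basicOpen g
    refine ev_injective (hW.basicOpen g) (LinearMap.ext fun z => ?_)
    rw [sc_apply, ev_smul, LinearMap.smul_apply]
    obtain ⟨e, m, hm⟩ := exists_pow_extend M hW g rfl z
    rw [sc_apply] at hm
    have hu : IsUnit (r (g ^ e)) := by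
      rw [map_pow]
      exact (RingedSpace.isUnit_res_basicOpen _ g).pow e
    refine hu.smul_left_cancel.1 ?_
    rw [← map_smul, smul_comm (r (g ^ e)), ← map_smul (ev t le_rfl)]
    rw [show r (g ^ e) • z = M.presheaf.map (homOfLE hgW).op m from hm.symm]
    obtain ⟨c, rfl⟩ := hπ m
    have h2 : ev ((RefHull.homSh M N).presheaf.map (homOfLE hgW).op s) le_rfl
        (M.presheaf.map (homOfLE hgW).op (π c)) = N.presheaf.map (homOfLE hgW).op (φ (π c)) := by
      rw [← hs]
      exact ext_germ _ _ fun y hy => by rw [germ_ev, germ_res', germ_res', germ_ev]; rfl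
    rw [h2, hφ, res_smul']
    show r (g ^ L) • N.presheaf.map (homOfLE hgW).op (α c) = r (g ^ (L + K)) • _
    rw [hres, ← mul_smul, ← map_mul, ← pow_add]

theorem locAt_homSh [IsLocallyNoetherian X] (hM : Coh.IsCoh M) :
    QCohLib.LocAt (RefHull.homSh M N) W := by
  haveI := hM.1
  haveI := QCohLib.finite_sections_of_isCoh hM hW
  haveI := QCohLib.isNoetherianRing_section hW
  haveI : Module.FinitePresentation Γ(X, W) Γ(M, W) := Module.finitePresentation_of_finite _ _
  exact locAt_homSh_of_finitePresentation hW hN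

end Affine

/-- The sheaf of homomorphisms out of a finitely presented module is quasi-coherent. -/
theorem isQCoh_homSh_of_isFP [Coh.IsQCoh M] (hM : CohB1.IsFP M) (hN : Coh.IsQCoh N) :
    Coh.IsQCoh (RefHull.homSh M N) :=
  (QCohLib.isQCoh_iff _).2 fun _ hW =>
    haveI := QCohLib.finitePresentation_sections M hM hW
    locAt_homSh_of_finitePresentation hW hN

variable [IsLocallyNoetherian X]

theorem isQCoh_homSh (hM : Coh.IsCoh M) (hN : Coh.IsQCoh N) : Coh.IsQCoh (RefHull.homSh M N) :=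
  (QCohLib.isQCoh_iff _).2 fun _ hW => locAt_homSh hW hN hM

/-- Sections of the sheaf of homomorphisms over an affine open. -/
def homEquiv {W : X.Opens} (hW : IsAffineOpen W) (M N : X.Modules) [Coh.IsQCoh M] :
    Γ(RefHull.homSh M N, W) ≃ₗ[Γ(X, W)] (Γ(M, W) →ₗ[Γ(X, W)] Γ(N, W)) :=
  LinearEquiv.ofBijective
    { toFun := fun f => ev f le_rfl, map_add' := fun f g => ev_add f g le_rfl, map_smul' := fun a f => ev_smul a f }
    ⟨fun _ _ h => ev_injective hW h, fun φ => ev_surjective hW φ⟩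

theorem isCoh_homSh (hM : Coh.IsCoh M) (hN : Coh.IsCoh N) : Coh.IsCoh (RefHull.homSh M N) := by
  haveI := isQCoh_homSh hM hN.1
  haveI := hM.1
  refine QCohLib.isCoh_of_finite _ fun W hW => ?_
  haveI := QCohLib.finite_sections_of_isCoh hM hW
  haveI := QCohLib.finite_sections_of_isCoh hN hW
  haveI := QCohLib.isNoetherianRing_section hW
  obtain ⟨b, gen, hgen⟩ := Module.Finite.exists_fin (R := Γ(X, W)) (M := Γ(M, W))
  let E : (Γ(M, W) →ₗ[Γ(X, W)] Γ(N, W)) →ₗ[Γ(X, W)] (Fin b → Γ(N, W)) :=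
    { toFun := fun φ l => φ (gen l), map_add' := fun _ _ => rfl, map_smul' := fun _ _ => rfl }
  haveI : Module.Finite Γ(X, W) (Γ(M, W) →ₗ[Γ(X, W)] Γ(N, W)) :=
    Module.Finite.of_injective E fun φ ψ h => LinearMap.ext_on_range hgen fun l => congrFun h l
  exact Module.Finite.equiv (homEquiv hW M N).symm

/-- The support lies in both supports. -/
theorem support_homSh_subset (hM : Coh.IsCoh M) (hN : Coh.IsCoh N) :
    CohB1.support (RefHull.homSh M N) ⊆ CohB1.support M ∩ CohB1.support N := by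
  intro x hx
  by_contra hn
  refine hx (subsingleton_of_forall_eq 0 fun z => ?_)
  obtain ⟨U, hxU, f, rfl⟩ := TopCat.Presheaf.exists_germ_eq (RefHull.homSh M N).presheaf z
  have hnx : x ∈ (CohB1.support M ∩ CohB1.support N)ᶜ := hn
  let O : X.Opens := ⟨(CohB1.support M ∩ CohB1.support N)ᶜ,
    ((PullbackMod.isClosed_support_of_isFT hM.2).inter (PullbackMod.isClosed_support_of_isFT hN.2)).isOpen_compl⟩
  rw [← germ_res' (inf_le_left : U ⊓ O ≤ U) ⟨hxU, hnx⟩ f, show
    (RefHull.homSh M N).presheaf.map (homOfLE (inf_le_left : U ⊓ O ≤ U)).op f = 0 from ext_stalk _ _ fun y hy => ?_,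
    map_zero]
  refine LinearMap.ext fun w => ?_
  rcases not_and_or.1 (show y ∈ (CohB1.support M ∩ CohB1.support N)ᶜ from hy.2) with h | h
  · rw [(not_not.1 h).elim w 0, map_zero, map_zero]
  · exact (not_not.1 h).elim _ _

end Groth.Agent.HomLib
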