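import Mathlib.RingTheory.Filtration
import Mathlib.RingTheory.Noetherian.Basic
import Mathlib.RingTheory.Ideal.Operations
import Mathlib.Algebra.Module.Submodule.Pointwise
import Mathlib.LinearAlgebra.Finsupp.LinearCombination
import Mathlib.LinearAlgebra.Pi

/-!
# Homomorphisms into the quotients by powers of an ideal
-/

set_option autoImplicit false

universe u

namespace Groth.Agent.HomLib

variable {R : Type u} [CommRing R] (J : Ideal R) {M N : Type u} [AddCommGroup M] [Module R M]
  [AddCommGroup N] [Module R N]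

lemma mem_smul_top_pi {b : ℕ} (K : Ideal R) (y : Fin b → N) :
    y ∈ K • (⊤ : Submodule R (Fin b → N)) ↔ ∀ l, y l ∈ K • (⊤ : Submodule R N) := by
  classical
  refine ⟨fun h l => ?_, fun h => ?_⟩
  · have := Submodule.mem_map_of_mem (f := LinearMap.proj l) h
    rw [Submodule.map_smul''] at this
    exact Submodule.smul_mono le_rfl le_top this
  · rw [← Finset.univ_sum_single y]
    refine Submodule.sum_mem _ fun l _ => ?_
    have := Submodule.mem_map_of_mem (f := LinearMap.single R (fun _ : Fin b => N) l) (h l)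
    rw [Submodule.map_smul''] at this
    exact Submodule.smul_mono le_rfl le_top this

variable [IsNoetherianRing R] [Module.Finite R M] [Module.Finite R N]

/-- A uniform comparison of `Hom(M, N)/J^k` and `Hom(M, N/J^k)`. -/
theorem exists_artinRees_hom : ∃ c : ℕ,
    (∀ (k : ℕ) (h : M →ₗ[R] N), (∀ m, h m ∈ J ^ k • (⊤ : Submodule R N)) →
      h ∈ J ^ (k - c) • (⊤ : Submodule R (M →ₗ[R] N))) ∧
    ∀ (k : ℕ) (ψ : M →ₗ[R] N ⧸ (J ^ k • (⊤ : Submodule R N))), ∃ h : M →ₗ[R] N, ∀ (m : M) (n : N),
      Submodule.Quotient.mk n = ψ m → h m - n ∈ J ^ (k - c) • (⊤ : Submodule R N) := by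
  classical
  obtain ⟨b, gen, hgen⟩ := Module.Finite.exists_fin (R := R) (M := M)
  let π : (Fin b → R) →ₗ[R] M := Fintype.linearCombination R gen
  have hπ : Function.Surjective π := by
    rw [← LinearMap.range_eq_top, Fintype.range_linearCombination, hgen]
  obtain ⟨a, r, hr⟩ := Submodule.fg_iff_exists_fin_generating_family.1 (IsNoetherian.noetherian (LinearMap.ker π))
  -- evaluation at the generators and the relations
  let E : (M →ₗ[R] N) →ₗ[R] (Fin b → N) :=
    { toFun := fun φ l => φ (gen l), map_add' := fun _ _ => rfl, map_smul' := fun _ _ => rfl }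
  let δ : (Fin b → N) →ₗ[R] (Fin a → N) :=
    LinearMap.pi fun i => ∑ l, r i l • LinearMap.proj l
  have hE : Function.Injective E := fun φ ψ h => LinearMap.ext_on_range hgen fun l => congrFun h l
  obtain ⟨c₁, hc₁⟩ := J.exists_pow_inf_eq_pow_smul (LinearMap.range E)
  obtain ⟨c₂, hc₂⟩ := J.exists_pow_inf_eq_pow_smul (LinearMap.range δ)
  refine ⟨c₁ + c₂, fun k h hh => ?_, fun k ψ => ?_⟩
  · rcases Nat.lt_or_ge k c₁ with hk | hk
    · rw [show k - (c₁ + c₂) = 0 by omega, pow_zero, Ideal.one_eq_top, Submodule.top_smul]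
      trivial
    have h1 : E h ∈ J ^ k • (⊤ : Submodule R (Fin b → N)) ⊓ LinearMap.range E :=
      ⟨(mem_smul_top_pi _ _).2 fun l => hh _, ⟨h, rfl⟩⟩
    rw [hc₁ k hk] at h1
    have h2 : E h ∈ (J ^ (k - c₁) • (⊤ : Submodule R (M →ₗ[R] N))).map E := by
      rw [Submodule.map_smul'', Submodule.map_top]
      exact Submodule.smul_mono le_rfl inf_le_right h1
    obtain ⟨h', hh', e⟩ := h2
    rw [hE e] at hh'
    exact Submodule.smul_mono_left (Ideal.pow_le_pow_right (by omega)) hh'
  · choose y hy using fun l => Submodule.Quotient.mk_surjective _ (ψ (gen l))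
    have hδ : δ y ∈ J ^ k • (⊤ : Submodule R (Fin a → N)) := by
      refine (mem_smul_top_pi _ _).2 fun i => (Submodule.Quotient.mk_eq_zero _).1 ?_
      have h0 : π (r i) = 0 := LinearMap.mem_ker.1 (hr ▸ Submodule.subset_span ⟨i, rfl⟩)
      have h1 := congrArg ψ h0
      simp only [π, Fintype.linearCombination_apply, map_sum, map_smul, map_zero] at h1
      rw [← h1]
      simp only [δ, LinearMap.pi_apply, LinearMap.coe_sum, Finset.sum_apply, LinearMap.smul_apply,
        LinearMap.proj_apply, ← hy]
      exact (map_sum (Submodule.mkQ (J ^ k • (⊤ : Submodule R N))) _ _).trans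
        (Finset.sum_congr rfl fun l _ => map_smul (Submodule.mkQ (J ^ k • (⊤ : Submodule R N))) _ _)
    obtain ⟨z, hz, hzy⟩ : ∃ z ∈ J ^ (k - (c₁ + c₂)) • (⊤ : Submodule R (Fin b → N)), δ z = δ y := by
      rcases Nat.lt_or_ge k c₂ with hk | hk
      · exact ⟨y, by rw [show k - (c₁ + c₂) = 0 by omega, pow_zero, Ideal.one_eq_top, Submodule.top_smul]; trivial, rfl⟩
      have h1 : δ y ∈ J ^ k • (⊤ : Submodule R (Fin a → N)) ⊓ LinearMap.range δ := ⟨hδ, y, rfl⟩
      rw [hc₂ k hk] at h1
      have h2 : δ y ∈ (J ^ (k - c₂) • (⊤ : Submodule R (Fin b → N))).map δ := by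
        rw [Submodule.map_smul'', Submodule.map_top]
        exact Submodule.smul_mono le_rfl inf_le_right h1
      obtain ⟨z, hz, e⟩ := h2
      exact ⟨z, Submodule.smul_mono_left (Ideal.pow_le_pow_right (by omega)) hz, e⟩
    let α : (Fin b → R) →ₗ[R] N := Fintype.linearCombination R (y - z)
    have hker : LinearMap.ker π ≤ LinearMap.ker α := by
      rw [← hr, Submodule.span_le]
      rintro _ ⟨i, rfl⟩
      show Fintype.linearCombination R (y - z) (r i) = 0
      have h := congrFun (show δ (y - z) = 0 by rw [map_sub, hzy, sub_self]) i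
      simp only [δ, LinearMap.pi_apply, LinearMap.coe_sum, Finset.sum_apply, LinearMap.smul_apply,
        LinearMap.proj_apply, Pi.zero_apply] at h
      rw [Fintype.linearCombination_apply]
      exact h
    let h : M →ₗ[R] N := ((LinearMap.ker π).liftQ α hker).comp (π.quotKerEquivOfSurjective hπ).symm.toLinearMap
    have hh : ∀ v, h (π v) = α v := fun v => by
      show (LinearMap.ker π).liftQ α hker ((π.quotKerEquivOfSurjective hπ).symm (π v)) = _
      rw [(LinearEquiv.symm_apply_eq _).2
        (show π v = π.quotKerEquivOfSurjective hπ (Submodule.Quotient.mk v) from rfl)]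
      rfl
    refine ⟨h, fun m n hn => ?_⟩
    obtain ⟨v, rfl⟩ := hπ m
    have hv : n - Fintype.linearCombination R y v ∈ J ^ (k - (c₁ + c₂)) • (⊤ : Submodule R N) := by
      refine Submodule.smul_mono_left (Ideal.pow_le_pow_right (Nat.sub_le k _)) ((Submodule.Quotient.eq _).1 ?_)
      rw [hn]
      simp only [π, Fintype.linearCombination_apply, map_sum, map_smul, ← hy]
      exact ((map_sum (Submodule.mkQ (J ^ k • (⊤ : Submodule R N))) _ _).trans
        (Finset.sum_congr rfl fun l _ => map_smul (Submodule.mkQ (J ^ k • (⊤ : Submodule R N))) _ _)).symm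
    have hzv : Fintype.linearCombination R z v ∈ J ^ (k - (c₁ + c₂)) • (⊤ : Submodule R N) := by
      rw [Fintype.linearCombination_apply]
      exact Submodule.sum_mem _ fun l _ => Submodule.smul_mem _ _ ((mem_smul_top_pi _ _).1 hz l)
    rw [hh, show α v - n = -(Fintype.linearCombination R z v) - (n - Fintype.linearCombination R y v) by
      simp only [α, Fintype.linearCombination_apply, Pi.sub_apply, smul_sub, Finset.sum_sub_distrib]
      abel]
    exact sub_mem (neg_mem hzv) hv

end Groth.Agent.HomLib
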