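import Groth.Agent.HomLib.Basic
import Groth.Agent.HomLib.Algebra
import Groth.Agent.FormalLib.ModPow
import Groth.Agent.QCohLib.Exact
import Groth.Agent.FormalLib.ProperSupport
import Groth.Prelude.Def_RefFun

/-!
# Completion is fully faithful
-/

set_option autoImplicit false
set_option backward.isDefEq.respectTransparency false
set_option linter.style.haveILetI false

universe u

open CategoryTheory CategoryTheory.Limits AlgebraicGeometry TopologicalSpace Opposite
open Groth.Agent.CohBase Groth.Agent.ProjCoh Groth.Agent.PullbackMod Groth.Agent.FormalLib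

noncomputable section

namespace Groth.Agent.HomLib

variable {A : Type u} [CommRing A] {X : Scheme.{u}} [X.Over (Spec (CommRingCat.of A))] (I : Ideal A)

/-- The transition map between two quotients. -/
def tr (M : X.Modules) {n k : ℕ} (h : n ≤ k) : Formal.modPow I k M ⟶ Formal.modPow I n M :=
  cokernel.desc _ (Formal.modPowπ I n M) (Formal.smulFamily_π_of_le (Ideal.pow_le_pow_right h) M)

lemma π_tr (M : X.Modules) {n k : ℕ} (h : n ≤ k) :
    Formal.modPowπ I k M ≫ tr I M h = Formal.modPowπ I n M := cokernel.π_desc _ _ _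

lemma tr_comp (M : X.Modules) {n k l : ℕ} (h : n ≤ k) (h' : k ≤ l) :
    tr I M h' ≫ tr I M h = tr I M (h.trans h') := by
  refine coequalizer.hom_ext ?_
  show Formal.modPowπ I l M ≫ _ ≫ _ = Formal.modPowπ I l M ≫ _
  rw [← Category.assoc, π_tr, π_tr, π_tr]

lemma cTrans_eq_tr (M : X.Modules) {n k : ℕ} (h : n ≤ k) :
    cTrans I M n k h = tr I M (Nat.add_le_add_right h 1) := by
  refine coequalizer.hom_ext ?_
  show Formal.modPowπ I (k + 1) M ≫ _ = Formal.modPowπ I (k + 1) M ≫ _
  rw [π_tr]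
  exact map_completion I n k h M

variable (M N : X.Modules)

/-- `ℋom(M, N/I^n N)`. -/
abbrev P (n : ℕ) : X.Modules := RefHull.homSh M (Formal.modPow I n N)

/-- Transition maps. -/
abbrev T {n k : ℕ} (h : n ≤ k) : P I M N k ⟶ P I M N n := RefFun.homMap M (tr I N h)

lemma T_comp {n k l : ℕ} (h : n ≤ k) (h' : k ≤ l) : T I M N h' ≫ T I M N h = T I M N (h.trans h') := by
  rw [← RefFun.homMap_comp, tr_comp]

lemma smulFamily_homπ (n : ℕ) :
    Formal.smulFamily (I ^ n) (RefHull.homSh M N) ≫ RefFun.homMap M (Formal.modPowπ I n N) = 0 := by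
  refine Sigma.hom_ext _ _ fun a => ?_
  rw [comp_zero, ← Category.assoc, Formal.smulFamily, Sigma.ι_desc]
  have h : Formal.smulMod A N a.1 ≫ Formal.modPowπ I n N = 0 := by
    rw [show Formal.smulMod A N a.1 = Sigma.ι (fun _ : ↥(I ^ n) => N) a ≫ Formal.smulFamily (I ^ n) N by
      rw [Formal.smulFamily, Sigma.ι_desc], Category.assoc]
    exact (congrArg _ (cokernel.condition (Formal.smulFamily (I ^ n) N))).trans comp_zero
  refine Scheme.Modules.hom_ext _ _ fun U => AddCommGrpCat.hom_ext (AddMonoidHom.ext fun f =>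
    ext_stalk _ _ fun x hx => LinearMap.ext fun z => ?_)
  show RefHull.stalkMapₗ (Formal.modPowπ I n N) x
    (X.presheaf.germ U x hx (φV (cst A X) U a.1) • f.1 ⟨x, hx⟩ z) = 0
  obtain ⟨V, hxV, s, hs⟩ := TopCat.Presheaf.exists_germ_eq N.presheaf (f.1 ⟨x, hx⟩ z)
  rw [← hs, ← germ_res' (inf_le_right : U ⊓ V ≤ V) ⟨hx, hxV⟩ s,
    ← X.presheaf.germ_res_apply (homOfLE (inf_le_left : U ⊓ V ≤ U)) x ⟨hx, hxV⟩ (φV (cst A X) U a.1),
    ← germ_smul', res_φV, RefHull.stalkMapₗ_germ]
  refine (congrArg _ (congr($(h).app (U ⊓ V) (N.presheaf.map (homOfLE (inf_le_right : U ⊓ V ≤ V)).op s)))).trans ?_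
  exact map_zero _

/-- Evaluation. -/
def evn (n : ℕ) : Formal.modPow I n (RefHull.homSh M N) ⟶ P I M N n :=
  cokernel.desc _ _ (smulFamily_homπ I M N n)

lemma π_evn (n : ℕ) : Formal.modPowπ I n (RefHull.homSh M N) ≫ evn I M N n = RefFun.homMap M (Formal.modPowπ I n N) :=
  cokernel.π_desc _ _ _

lemma tr_evn {n k : ℕ} (h : n ≤ k) :
    tr I (RefHull.homSh M N) h ≫ evn I M N n = evn I M N k ≫ T I M N h := by
  refine coequalizer.hom_ext ?_
  show Formal.modPowπ I k _ ≫ _ ≫ _ = Formal.modPowπ I k _ ≫ _ ≫ _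
  rw [← Category.assoc, π_tr, π_evn, ← Category.assoc, π_evn, ← RefFun.homMap_comp, π_tr]

lemma ev_homMap {G G' : X.Modules} (φ : G ⟶ G') {U : X.Opens} (f : Γ(RefHull.homSh M G, U)) {V : X.Opens}
    (h : V ≤ U) (m : Γ(M, V)) : ev ((RefFun.homMap M φ).app U f) h m = φ.app V (ev f h m) :=
  ext_germ _ _ fun x hx => by
    rw [germ_ev, RefFun.homMap_app_apply, LinearMap.comp_apply, ← germ_ev f h hx, RefHull.stalkMapₗ_germ]

/-- A morphism out of a quasi-coherent module vanishes if it does so on the sections of an affine cover. -/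
theorem eq_zero_of_cover {F G : X.Modules} [Coh.IsQCoh F] (f : F ⟶ G)
    (h : ∀ x : X, ∃ W : X.Opens, IsAffineOpen W ∧ x ∈ W ∧ ∀ s : Γ(F, W), f.app W s = 0) : f = 0 := by
  refine (eq_zero_iff_stalk f).2 fun x => LinearMap.ext fun z => ?_
  obtain ⟨W, hW, hx, h0⟩ := h x
  letI := Module.compHom (F.presheaf.stalk x) (X.presheaf.germ W x hx).hom
  letI : Algebra Γ(X, W) (X.presheaf.stalk x) := TopCat.Presheaf.algebra_section_stalk X.presheaf ⟨x, hx⟩
  haveI := hW.isLocalization_stalk ⟨x, hx⟩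
  haveI := FlatLocus.isLocalizedModule_germL F hW x hx
  obtain ⟨⟨m, s⟩, hs⟩ := IsLocalizedModule.surj (hW.primeIdealOf ⟨x, hx⟩).asIdeal.primeCompl
    (FlatLocus.germL F W x hx) z
  have hu : IsUnit (algebraMap Γ(X, W) (X.presheaf.stalk x) s.1) := IsLocalization.map_units _ s
  refine hu.smul_left_cancel.1 ?_
  rw [← map_smul, show algebraMap Γ(X, W) (X.presheaf.stalk x) s.1 • z = F.presheaf.germ W x hx m from hs,
    stalkLin_germ, h0, map_zero, LinearMap.zero_apply, smul_zero]

variable [IsNoetherianRing A]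

section Bound

variable [IsLocallyNoetherian X] {M N} (hM : Coh.IsCoh M) (hN : Coh.IsCoh N) {W : X.Opens} (hW : IsAffineOpen W)

/-- The ideal generated on an open. -/
abbrev IW (W : X.Opens) : Ideal Γ(X, W) := I.map (φV (cst A X) W)

omit [IsNoetherianRing A] [IsLocallyNoetherian X] in
lemma mem_pow_smul_iff (F : X.Modules) (n : ℕ) (s : Γ(F, W)) :
    s ∈ IW I W ^ n • (⊤ : Submodule Γ(X, W) Γ(F, W)) ↔
      toSec (cst A X) s ∈ I ^ n • (⊤ : Submodule A (Sec (cst A X) F W)) := by
  letI : Algebra A Γ(X, W) := (φV (cst A X) W).toAlgebra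
  letI : Module A Γ(F, W) := inferInstanceAs (Module A (Sec (cst A X) F W))
  haveI : IsScalarTower A Γ(X, W) Γ(F, W) := .of_algebraMap_smul fun _ _ => rfl
  have h := Ideal.smul_restrictScalars (R := A) (S := Γ(X, W)) (I ^ n) (⊤ : Submodule Γ(X, W) Γ(F, W))
  rw [Submodule.restrictScalars_top, Ideal.map_pow] at h
  exact (SetLike.ext_iff.1 h s : _)

omit [IsLocallyNoetherian X] in
include hW in
lemma π_eq_zero_iff (F : X.Modules) (hF : Coh.IsQCoh F) (n : ℕ) (s : Γ(F, W)) :
    (Formal.modPowπ I n F).app W s = 0 ↔ s ∈ IW I W ^ n • (⊤ : Submodule Γ(X, W) Γ(F, W)) := by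
  rw [mem_pow_smul_iff]
  exact (SetLike.ext_iff.1 (secMap_modPowπ I n F hF hW).2 s : _)

include hM hN hW in
theorem exists_local_bound : ∃ c : ℕ,
    (∀ (k n : ℕ) (h : n ≤ k), n + c ≤ k → ∀ z : Γ(Formal.modPow I k (RefHull.homSh M N), W),
      (evn I M N k).app W z = 0 → (tr I (RefHull.homSh M N) h).app W z = 0) ∧
    ∀ (k n : ℕ) (h : n ≤ k), n + c ≤ k → ∀ ψ : Γ(P I M N k, W),
      ∃ z : Γ(Formal.modPow I n (RefHull.homSh M N), W), (evn I M N n).app W z = (T I M N h).app W ψ := by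
  haveI := hM.1
  haveI := QCohLib.finite_sections_of_isCoh hM hW
  haveI := QCohLib.finite_sections_of_isCoh hN hW
  haveI := QCohLib.isNoetherianRing_section hW
  obtain ⟨c, hc, hc'⟩ := exists_artinRees_hom (IW I W) (M := Γ(M, W)) (N := Γ(N, W))
  have hH := isQCoh_homSh hM hN.1
  refine ⟨c, fun k n h hk z hz => ?_, fun k n h hk ψ => ?_⟩
  · obtain ⟨f, rfl⟩ : ∃ f, (Formal.modPowπ I k (RefHull.homSh M N)).app W f = z :=
      (secMap_modPowπ I k _ hH hW).1 z
    have hmem := hc k (ev f le_rfl) fun m => by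
      rw [← π_eq_zero_iff I hW N hN.1, ← ev_homMap]
      rw [show (RefFun.homMap M (Formal.modPowπ I k N)).app W f = 0 from
        (congr($(π_evn I M N k).app W f)).symm.trans hz]
      exact ext_germ _ _ fun x hx => by rw [germ_ev, map_zero]; rfl
    refine (congr($(π_tr I (RefHull.homSh M N) h).app W f)).trans ((π_eq_zero_iff I hW _ hH n f).2 ?_)
    have := Submodule.mem_map_of_mem (f := (homEquiv hW M N).symm.toLinearMap) hmem
    rw [Submodule.map_smul''] at this
    rw [show f = (homEquiv hW M N).symm (ev f le_rfl) from ((homEquiv hW M N).symm_apply_apply f).symm]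
    exact Submodule.smul_mono (Ideal.pow_le_pow_right (by omega)) le_top this
  · obtain ⟨hs, -⟩ := secMap_modPowπ I k N hN.1 hW
    let πk : Γ(N, W) →ₗ[Γ(X, W)] Γ(Formal.modPow I k N, W) :=
      { toFun := (Formal.modPowπ I k N).app W, map_add' := map_add ((Formal.modPowπ I k N).app W).hom,
        map_smul' := fun c s => Scheme.Modules.Hom.app_smul _ c s }
    have hker : LinearMap.ker πk = IW I W ^ k • ⊤ := by
      ext s
      exact π_eq_zero_iff I hW N hN.1 k s
    let q : (Γ(N, W) ⧸ IW I W ^ k • (⊤ : Submodule Γ(X, W) Γ(N, W))) ≃ₗ[Γ(X, W)] Γ(Formal.modPow I k N, W) :=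
      (Submodule.quotEquivOfEq _ _ hker.symm).trans (πk.quotKerEquivOfSurjective hs)
    obtain ⟨g, hg⟩ := hc' k (q.symm.toLinearMap.comp (ev ψ le_rfl))
    refine ⟨(Formal.modPowπ I n _).app W ((homEquiv hW M N).symm g), ?_⟩
    refine (congr($(π_evn I M N n).app W ((homEquiv hW M N).symm g))).trans (ev_injective hW (LinearMap.ext fun m => ?_))
    rw [ev_homMap, ev_homMap, show ev ((homEquiv hW M N).symm g) le_rfl = g from (homEquiv hW M N).apply_symm_apply g]
    obtain ⟨y, hy⟩ : ∃ y : Γ(N, W), (Formal.modPowπ I k N).app W y = ev ψ le_rfl m := hs (ev ψ le_rfl m)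
    rw [← hy]
    refine Eq.trans ?_ (congr($(π_tr I N h).app W y)).symm
    have hd := hg m y (q.injective (by rw [LinearMap.comp_apply]; exact hy.trans (q.apply_symm_apply _).symm))
    have hd' := (π_eq_zero_iff I hW N hN.1 n (g m - y)).2 (Submodule.smul_mono_left (Ideal.pow_le_pow_right (by omega)) hd)
    rw [map_sub, sub_eq_zero] at hd'
    exact hd'

end Bound

variable {M N} [IsNoetherian X] (hM : Coh.IsCoh M) (hN : Coh.IsCoh N)

include hM hN

theorem exists_global_bound : ∃ c : ℕ, ∀ (k n : ℕ) (h : n ≤ k), n + c ≤ k →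
    kernel.ι (evn I M N k) ≫ tr I (RefHull.homSh M N) h = 0 ∧ T I M N h ≫ cokernel.π (evn I M N n) = 0 := by
  classical
  have hH := isQCoh_homSh hM hN.1
  have hP : ∀ n, Coh.IsQCoh (P I M N n) := fun n => isQCoh_homSh hM (isQCoh_modPow I n N hN.1)
  have hQ : ∀ n, Coh.IsQCoh (Formal.modPow I n (RefHull.homSh M N)) := fun n => isQCoh_modPow I n _ hH
  obtain ⟨S, hS⟩ := isCompact_univ.elim_finite_subcover (fun W : X.affineOpens => (W.1 : Set X))
    (fun W => W.1.2) fun x _ => by
      obtain ⟨_, ⟨W, hW, rfl⟩, hxW, -⟩ :=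
        X.isBasis_affineOpens.exists_subset_of_mem_open (Set.mem_univ x) isOpen_univ
      exact Set.mem_iUnion.2 ⟨⟨W, hW⟩, hxW⟩
  choose c hc hc' using fun W : X.affineOpens => exists_local_bound I hM hN W.2
  refine ⟨S.sup c, fun k n h hk => ⟨?_, ?_⟩⟩
  · haveI : Coh.IsQCoh (kernel (evn I M N k)) := (QCohLib.isQCoh_image _ (hQ k) (hP k)).1
    refine eq_zero_of_cover _ fun x => ?_
    obtain ⟨W, hWS, hxW⟩ := Set.mem_iUnion₂.1 (hS (Set.mem_univ x))
    exact ⟨W.1, W.2, hxW, fun s => hc W k n h (by have := Finset.le_sup (f := c) hWS; omega) _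
      (congr($(kernel.condition (evn I M N k)).app W.1 s))⟩
  · haveI := hP k
    refine eq_zero_of_cover _ fun x => ?_
    obtain ⟨W, hWS, hxW⟩ := Set.mem_iUnion₂.1 (hS (Set.mem_univ x))
    refine ⟨W.1, W.2, hxW, fun s => ?_⟩
    obtain ⟨z, hz⟩ := hc' W k n h (by have := Finset.le_sup (f := c) hWS; omega) s
    show (cokernel.π (evn I M N n)).app W.1 ((T I M N h).app W.1 s) = 0
    rw [← hz]
    exact congr($(cokernel.condition (evn I M N n)).app W.1 z)

/-- Sections of `ℋom(M, N)` against compatible sections of `ℋom(M, N/I^n N)`. -/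
theorem exists_section
    (hinj : ∀ f : Γ(RefHull.homSh M N, (⊤ : X.Opens)),
      (∀ n, (Formal.modPowπ I (n + 1) (RefHull.homSh M N)).app ⊤ f = 0) → f = 0)
    (hsurj : ∀ s : ∀ n, Γ(Formal.modPow I (n + 1) (RefHull.homSh M N), (⊤ : X.Opens)),
      (∀ n, (Formal.modPowTrans I (n + 1) (RefHull.homSh M N)).app ⊤ (s (n + 1)) = s n) →
      ∃ f, ∀ n, (Formal.modPowπ I (n + 1) (RefHull.homSh M N)).app ⊤ f = s n)
    (ψ : ∀ n, Γ(P I M N (n + 1), (⊤ : X.Opens)))
    (hψ : ∀ n k (h : n ≤ k), (T I M N (Nat.add_le_add_right h 1)).app ⊤ (ψ k) = ψ n) :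
    ∃! f : Γ(RefHull.homSh M N, (⊤ : X.Opens)), ∀ n, (RefFun.homMap M (Formal.modPowπ I (n + 1) N)).app ⊤ f = ψ n := by
  obtain ⟨c, hc⟩ := exists_global_bound I hM hN
  let H := RefHull.homSh M N
  have l1 : ∀ n, n ≤ n + c := fun n => Nat.le_add_right n c
  let ρ : ∀ n, Abelian.image (evn I M N (n + c)) ⟶ Formal.modPow I n H := fun n =>
    (Abelian.coimageIsoImage _).inv ≫ cokernel.desc (kernel.ι _) (tr I H (l1 n)) (hc (n + c) n (l1 n) le_rfl).1
  have hρ : ∀ n, Abelian.factorThruImage (evn I M N (n + c)) ≫ ρ n = tr I H (l1 n) := fun n => by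
    have e : Abelian.factorThruImage (evn I M N (n + c)) =
        cokernel.π (kernel.ι (evn I M N (n + c))) ≫ (Abelian.coimageIsoImage (evn I M N (n + c))).hom := by
      rw [← cancel_mono (Abelian.image.ι (evn I M N (n + c))), Category.assoc, Abelian.image.fac]
      exact (Abelian.coimage_image_factorisation (evn I M N (n + c))).symm
    rw [e, Category.assoc, Iso.hom_inv_id_assoc]
    exact cokernel.π_desc _ _ _
  let lft : ∀ n, P I M N (n + c + c) ⟶ Abelian.image (evn I M N (n + c)) := fun n =>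
    kernel.lift _ (T I M N (l1 (n + c))) (hc (n + c + c) (n + c) (l1 (n + c)) le_rfl).2
  have hlft : ∀ n, lft n ≫ Abelian.image.ι (evn I M N (n + c)) = T I M N (l1 (n + c)) := fun n =>
    kernel.lift_ι _ _ _
  let σ : ∀ n, P I M N (n + c + c) ⟶ Formal.modPow I n H := fun n => lft n ≫ ρ n
  have hσev : ∀ n, σ n ≫ evn I M N n = T I M N ((l1 n).trans (l1 (n + c))) := fun n => by
    have h : ρ n ≫ evn I M N n = Abelian.image.ι (evn I M N (n + c)) ≫ T I M N (l1 n) := by
      rw [← cancel_epi (Abelian.factorThruImage (evn I M N (n + c))), ← Category.assoc, hρ, ← Category.assoc,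
        Abelian.image.fac, tr_evn]
    rw [Category.assoc, h, ← Category.assoc, hlft, T_comp]
  have hσnat : ∀ n, σ (n + 1) ≫ tr I H (Nat.le_succ n) =
      T I M N (show n + c + c ≤ n + 1 + c + c by omega) ≫ σ n := fun n => by
    have hz : (Abelian.image.ι (evn I M N (n + 1 + c)) ≫ T I M N (show n + c ≤ n + 1 + c by omega)) ≫
        cokernel.π (evn I M N (n + c)) = 0 := by
      rw [← cancel_epi (Abelian.factorThruImage (evn I M N (n + 1 + c))), comp_zero, ← Category.assoc,
        ← Category.assoc, Abelian.image.fac, ← tr_evn, Category.assoc, cokernel.condition, comp_zero]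
    let m : Abelian.image (evn I M N (n + 1 + c)) ⟶ Abelian.image (evn I M N (n + c)) := kernel.lift _ _ hz
    have hm : m ≫ Abelian.image.ι (evn I M N (n + c)) =
        Abelian.image.ι (evn I M N (n + 1 + c)) ≫ T I M N (show n + c ≤ n + 1 + c by omega) :=
      kernel.lift_ι _ _ _
    have hm1 : ρ (n + 1) ≫ tr I H (Nat.le_succ n) = m ≫ ρ n := by
      rw [← cancel_epi (Abelian.factorThruImage (evn I M N (n + 1 + c))), ← Category.assoc, hρ, tr_comp,
        ← Category.assoc]
      have : Abelian.factorThruImage (evn I M N (n + 1 + c)) ≫ m =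
          tr I H (show n + c ≤ n + 1 + c by omega) ≫ Abelian.factorThruImage (evn I M N (n + c)) := by
        rw [← cancel_mono (Abelian.image.ι (evn I M N (n + c))), Category.assoc, hm, ← Category.assoc,
          Abelian.image.fac, Category.assoc, Abelian.image.fac, tr_evn]
      rw [this, Category.assoc, hρ, tr_comp]
    have hm2 : lft (n + 1) ≫ m = T I M N (show n + c + c ≤ n + 1 + c + c by omega) ≫ lft n := by
      rw [← cancel_mono (Abelian.image.ι (evn I M N (n + c))), Category.assoc, hm, ← Category.assoc, hlft,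
        Category.assoc, hlft, T_comp, T_comp]
    show (lft (n + 1) ≫ ρ (n + 1)) ≫ _ = _ ≫ lft n ≫ ρ n
    rw [Category.assoc, hm1, ← Category.assoc, hm2, Category.assoc]
  let ψ' : ∀ n, Γ(P I M N (n + 1 + c + c), (⊤ : X.Opens)) := fun n =>
    (T I M N (show n + 1 + c + c ≤ n + c + c + 1 by omega)).app ⊤ (ψ (n + c + c))
  have hT : ∀ {a b d : ℕ} (h : a ≤ b) (h' : b ≤ d) (x : Γ(P I M N d, (⊤ : X.Opens))),
      (T I M N h).app ⊤ ((T I M N h').app ⊤ x) = (T I M N (h.trans h')).app ⊤ x := fun h h' x =>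
    congr($(T_comp I M N h h').app ⊤ x)
  have hψ' : ∀ n, (T I M N (show n + 1 + c + c ≤ n + 1 + 1 + c + c by omega)).app ⊤ (ψ' (n + 1)) = ψ' n := fun n => by
    have h1 := hψ (n + c + c) (n + 1 + c + c) (by omega)
    have h2 := hT (show n + 1 + c + c ≤ n + 1 + 1 + c + c by omega)
      (show n + 1 + 1 + c + c ≤ n + 1 + c + c + 1 by omega) (ψ (n + 1 + c + c))
    have h3 := hT (show n + 1 + c + c ≤ n + c + c + 1 by omega)
      (show n + c + c + 1 ≤ n + 1 + c + c + 1 by omega) (ψ (n + 1 + c + c))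
    exact h2.trans (h3.symm.trans (congrArg _ h1))
  have hcomp : ∀ {F G K : X.Modules} (a : F ⟶ G) (b : G ⟶ K) (x : Γ(F, (⊤ : X.Opens))),
      (a ≫ b).app ⊤ x = b.app ⊤ (a.app ⊤ x) := fun a b x => rfl
  obtain ⟨f, hf⟩ := hsurj (fun n => (σ (n + 1)).app ⊤ (ψ' n)) fun n => by
    have htr : Formal.modPowTrans I (n + 1) H = tr I H (Nat.le_succ (n + 1)) := rfl
    rw [htr, ← hcomp, hσnat (n + 1), hcomp, hψ' n]
  refine ⟨f, fun n => ?_, fun g hg => ?_⟩
  · refine (congr($(π_evn I M N (n + 1)).app ⊤ f)).symm.trans ?_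
    show (evn I M N (n + 1)).app ⊤ ((Formal.modPowπ I (n + 1) H).app ⊤ f) = ψ n
    rw [hf]
    refine (congr($(hσev (n + 1)).app ⊤ (ψ' n))).trans ?_
    rw [← hψ n (n + c + c) (by omega)]
    exact hT _ _ _
  · have h0 : ∀ n, (RefFun.homMap M (Formal.modPowπ I (n + 1) N)).app ⊤ (g - f) = 0 := fun n => by
      have hf' : (RefFun.homMap M (Formal.modPowπ I (n + 1) N)).app ⊤ f = ψ n := by
        refine (congr($(π_evn I M N (n + 1)).app ⊤ f)).symm.trans ?_
        show (evn I M N (n + 1)).app ⊤ ((Formal.modPowπ I (n + 1) H).app ⊤ f) = ψ n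
        rw [hf]
        refine (congr($(hσev (n + 1)).app ⊤ (ψ' n))).trans ?_
        rw [← hψ n (n + c + c) (by omega)]
        exact hT _ _ _
      rw [map_sub, hg n, hf', sub_self]
    refine sub_eq_zero.1 (hinj _ fun n => ?_)
    have hz : (evn I M N (n + c + 1)).app ⊤ ((Formal.modPowπ I (n + c + 1) H).app ⊤ (g - f)) = 0 :=
      (congr($(π_evn I M N (n + c + 1)).app ⊤ (g - f))).trans (h0 (n + c))
    obtain ⟨t, ht⟩ := QCohLib.kernel_app_exact (evn I M N (n + c + 1)) ⊤ _ hz
    have hle : n + 1 ≤ n + c + 1 := by omega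
    rw [show Formal.modPowπ I (n + 1) H = Formal.modPowπ I (n + c + 1) H ≫ tr I H hle from (π_tr I H hle).symm]
    show (tr I H hle).app ⊤ ((Formal.modPowπ I (n + c + 1) H).app ⊤ (g - f)) = 0
    rw [← ht]
    exact congr($((hc (n + c + 1) (n + 1) hle (by omega)).1).app ⊤ t)

omit hM hN in
/-- Completion is fully faithful when the supports meet in a subset proper over the base. -/
theorem existsUnique_of_completion [IsAdicComplete I A] [LocallyOfFiniteType (X ↘ Spec (CommRingCat.of A))]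
    [QuasiCompact (X ↘ Spec (CommRingCat.of A))] (hM : Coh.IsCoh M) (hN : Coh.IsCoh N)
    (hs : ClSub.IsProperOver (X ↘ Spec (CommRingCat.of A)) (CohB1.support M ∩ CohB1.support N))
    (τ : Formal.completion I M ⟶ Formal.completion I N) :
    ∃! φ : M ⟶ N, ∀ n : ℕ, Formal.modPowπ I (n + 1) M ≫ τ.app (op n) = φ ≫ Formal.modPowπ I (n + 1) N := by
  let H := RefHull.homSh M N
  have hHc : Coh.IsCoh H := isCoh_homSh hM hN
  have hsH : ClSub.IsProperOver (X ↘ Spec (CommRingCat.of A)) (CohB1.support H) := by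
    obtain ⟨hcl, hp⟩ := hs
    have hclH := PullbackMod.isClosed_support_of_isFT hHc.2
    have hle : Scheme.IdealSheafData.vanishingIdeal ⟨CohB1.support M ∩ CohB1.support N, hcl⟩ ≤
        Scheme.IdealSheafData.vanishingIdeal ⟨CohB1.support H, hclH⟩ :=
      Scheme.IdealSheafData.vanishingIdeal_antimono (support_homSh_subset hM hN)
    refine ⟨hclH, ?_⟩
    haveI := hp
    rw [← Scheme.IdealSheafData.inclusion_subschemeι hle, Category.assoc]
    infer_instance
  obtain ⟨Ψ, hΨ, hof, hfin⟩ := exists_comparison_properSupport I hHc hsH 0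
  haveI := hfin
  have hbij : Function.Bijective (Formal.toHHlim I H 0) := by
    rw [show ⇑(Formal.toHHlim I H 0) = Ψ ∘ AdicCompletion.of I _ from funext fun x => (hof x).symm]
    exact hΨ.comp (of_bijective_of_finite I _)
  let e : ∀ F : X.Modules, Coh.HH X F 0 ≃+ Γ(F, (⊤ : X.Opens)) := fun F =>
    (HHEquiv F 0).trans (H0Equiv (⊤ : X.Opens) (Coh.toAb F))
  have he : ∀ {F G : X.Modules} (f : F ⟶ G) (x : Coh.HH X F 0),
      e G (Sheaf.H.map ((SheafOfModules.toSheaf _).map f) 0 x) = f.app ⊤ (e F x) := fun {F G} f x => by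
    show H0Equiv (⊤ : X.Opens) (Coh.toAb G) (HEquiv (Coh.toAb G) 0 _) = _
    refine (congrArg _ (HEquiv_map ((SheafOfModules.toSheaf _).map f) 0 x)).trans ?_
    exact H0Equiv_hmap _ _ _
  let φn : ∀ n, M ⟶ Formal.modPow I (n + 1) N := fun n => Formal.modPowπ I (n + 1) M ≫ τ.app (op n)
  have hφn : ∀ n k (h : n ≤ k), φn k ≫ tr I N (Nat.add_le_add_right h 1) = φn n := fun n k h => by
    rw [← cTrans_eq_tr I N h, Category.assoc]
    have hnat : (Formal.completion I M).map (homOfLE h).op ≫ τ.app (op n) =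
        τ.app (op k) ≫ (Formal.completion I N).map (homOfLE h).op := τ.naturality _
    refine (congrArg (Formal.modPowπ I (k + 1) M ≫ ·) hnat.symm).trans ?_
    rw [← Category.assoc]
    exact congrArg (· ≫ τ.app (op n)) (map_completion I n k h M)
  have hof' : ∀ {G G' : X.Modules} (φ : M ⟶ G) (g : G ⟶ G'),
      (RefFun.homMap M g).app ⊤ (RefHull.ofHom φ ⊤) = RefHull.ofHom (φ ≫ g) ⊤ := fun φ g =>
    ext_stalk _ _ fun x hx => by
      rw [RefFun.homMap_app_apply, RefHull.ofHom_apply, RefHull.ofHom_apply, RefFun.stalkMapₗ_comp]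
  obtain ⟨f, hf, huniq⟩ := exists_section I hM hN
    (fun f hf => by
      obtain ⟨x, rfl⟩ := (e H).surjective f
      rw [show x = 0 from hbij.1 (Subtype.ext (funext fun n => (e _).injective (by
        refine (he _ x).trans ((hf n).trans ?_)
        rw [map_zero (Formal.toHHlim I H 0)]
        exact (map_zero (e _)).symm))), map_zero])
    (fun s hs => by
      obtain ⟨x, hx⟩ := hbij.2 ⟨fun n => (e _).symm (s n), fun n => (e _).injective (by
        refine (he _ _).trans ?_
        rw [AddEquiv.apply_symm_apply, AddEquiv.apply_symm_apply]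
        exact hs n)⟩
      exact ⟨e H x, fun n => (he _ x).symm.trans
        ((congrArg (e _) (congrFun (congrArg Subtype.val hx) n)).trans ((e _).apply_symm_apply _))⟩)
    (fun n => RefHull.ofHom (φn n) ⊤) (fun n k h => by rw [hof', hφn n k h])
  refine ⟨toHom f, fun n => ?_, fun φ hφ => ?_⟩
  · have h := hf n
    rw [← ofHom_toHom f, hof'] at h
    have h' := congrArg toHom h
    rw [toHom_ofHom, toHom_ofHom] at h'
    exact h'.symm
  · rw [← toHom_ofHom φ, huniq (RefHull.ofHom φ ⊤) fun n => by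
      show (RefFun.homMap M _).app ⊤ _ = RefHull.ofHom (φn n) ⊤
      rw [hof', ← hφ n]]

end Groth.Agent.HomLib
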